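import Groth.Prelude.Def_DerLim
import Mathlib.CategoryTheory.Abelian.Basic
import Mathlib.Algebra.Homology.ShortComplex.Abelian
import Mathlib.Algebra.Homology.ShortComplex.ShortExact
import Mathlib.Algebra.Homology.ShortComplex.ExactFunctor
import Mathlib.CategoryTheory.Abelian.FunctorCategory
import Mathlib.CategoryTheory.Abelian.GrothendieckAxioms.Basic
import Mathlib.CategoryTheory.Limits.Shapes.Biproducts
import Mathlib.Algebra.Order.BigOperators.Group.LocallyFinite
import Mathlib.Algebra.BigOperators.Intervals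

/-!
# The telescope of a sequence in a category with exact sequential colimits
-/

set_option autoImplicit false

universe v u

open CategoryTheory CategoryTheory.Limits

namespace Telescope29

attribute [local instance] Abelian.hasFiniteBiproducts

variable {A : Type u} [Category.{v} A] [Abelian A] (F : ℕ ⥤ A)

/-- finite partial sums -/
noncomputable abbrev partObj (N : ℕ) : A := ⨁ fun i : Fin N => F.obj i

/-- the inclusion of a summand -/
noncomputable def inc (N i : ℕ) (h : i < N) : F.obj i ⟶ partObj F N :=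
  biproduct.ι (fun j : Fin N => F.obj j) ⟨i, h⟩

theorem hom_ext {N : ℕ} {X : A} {a b : partObj F N ⟶ X}
    (h : ∀ i hi, inc F N i hi ≫ a = inc F N i hi ≫ b) : a = b :=
  biproduct.hom_ext' _ _ fun j => h j.1 j.2

/-- maps out of partial sums -/
noncomputable def desc (N : ℕ) {X : A} (φ : ∀ i, i < N → (F.obj i ⟶ X)) : partObj F N ⟶ X :=
  biproduct.desc fun j => φ j.1 j.2

@[reassoc (attr := simp)]
theorem inc_desc (N i : ℕ) (hi : i < N) {X : A} (φ : ∀ i, i < N → (F.obj i ⟶ X)) :
    inc F N i hi ≫ desc F N φ = φ i hi := by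
  simp [inc, desc]

/-- the functor of partial sums, shifted by `s` -/
noncomputable def part (s : ℕ) : ℕ ⥤ A where
  obj N := partObj F (N + s)
  map {M N} h := desc F (M + s) fun i hi => inc F (N + s) i (lt_of_lt_of_le hi (Nat.add_le_add_right (leOfHom h) s))
  map_id N := hom_ext F fun i hi => by simp
  map_comp f g := hom_ext F fun i hi => by simp

/-- `1 - shift` on partial sums -/
noncomputable def gMap : part F 0 ⟶ part F 1 where
  app N := desc F (N + 0) fun i hi =>
    inc F (N + 1) i (Nat.lt_succ_of_lt hi) - F.map (homOfLE (Nat.le_succ i)) ≫ inc F (N + 1) (i + 1) (Nat.succ_lt_succ hi)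
  naturality M N h := hom_ext F fun i hi => by dsimp [part]; simp [Preadditive.sub_comp]

/-- the map to the last term -/
noncomputable def qMap : part F 1 ⟶ F where
  app N := desc F (N + 1) fun i hi => F.map (homOfLE (Nat.lt_succ_iff.1 hi))
  naturality M N h := hom_ext F fun i hi => by
    dsimp [part]
    simp only [inc_desc_assoc, inc_desc]
    rw [← F.map_comp]
    rfl

theorem g_q : gMap F ≫ qMap F = 0 := by
  ext N
  refine hom_ext F fun i hi => ?_
  dsimp [gMap, qMap, part]
  simp only [inc_desc_assoc, inc_desc, Preadditive.sub_comp, Category.assoc]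
  rw [← F.map_comp]
  exact (sub_self _).trans comp_zero.symm

/-- `F (i → j)` followed by the inclusion -/
noncomputable def E (N i j : ℕ) : F.obj i ⟶ partObj F N :=
  if h : i ≤ j ∧ j < N then F.map (homOfLE h.1) ≫ inc F N j h.2 else 0

theorem E_eq (N i j : ℕ) (h1 : i ≤ j) (h2 : j < N) : E F N i j = F.map (homOfLE h1) ≫ inc F N j h2 := by
  rw [E, dif_pos ⟨h1, h2⟩]

theorem map_comp_E (N i j : ℕ) (h : i + 1 ≤ j) :
    F.map (homOfLE (Nat.le_succ i)) ≫ E F N (i + 1) j = E F N i j := by
  by_cases hj : j < N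
  · rw [E_eq F N _ j h hj, E_eq F N i j (Nat.le_of_succ_le h) hj, ← F.map_comp_assoc]
    rfl
  · simp [E, hj]

/-- the retraction -/
noncomputable def tMap (N : ℕ) : partObj F (N + 1) ⟶ partObj F (N + 0) :=
  desc F (N + 1) fun i _ => ∑ j ∈ Finset.Ico i N, E F (N + 0) i j

/-- the sequence is split at each stage -/
noncomputable def splitting (N : ℕ) :
    (ShortComplex.mk ((gMap F).app N) ((qMap F).app N) (by rw [← NatTrans.comp_app, g_q, zero_app])).Splitting where
  r := tMap F N
  s := inc F (N + 1) N (Nat.lt_succ_self N)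
  f_r := hom_ext F fun i hi => by
    show inc F (N + 0) i hi ≫ (gMap F).app N ≫ tMap F N = inc F (N + 0) i hi ≫ 𝟙 _
    have h1 : inc F (N + 0) i hi ≫ (gMap F).app N ≫ tMap F N =
        ∑ j ∈ Finset.Ico i N, E F (N + 0) i j - ∑ j ∈ Finset.Ico (i + 1) N, E F (N + 0) i j := by
      dsimp [gMap, tMap, part]
      simp only [inc_desc_assoc, Preadditive.sub_comp, Category.assoc, inc_desc, Preadditive.comp_sum]
      congr 1
      exact Finset.sum_congr rfl fun j hj => map_comp_E F _ i j (Finset.mem_Ico.1 hj).1
    rw [h1, Finset.sum_eq_sum_Ico_succ_bot (show i < N from hi), add_sub_cancel_right, E_eq F _ i i le_rfl hi, Category.comp_id]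
    simp
  s_g := by
    show inc F (N + 1) N _ ≫ (qMap F).app N = 𝟙 _
    simp [qMap]
  id := hom_ext F fun i hi => by
    show inc F (N + 1) i hi ≫ ((tMap F N ≫ (gMap F).app N : partObj F (N + 1) ⟶ partObj F (N + 1)) +
      ((qMap F).app N ≫ inc F (N + 1) N (Nat.lt_succ_self N) : partObj F (N + 1) ⟶ partObj F (N + 1))) =
      inc F (N + 1) i hi ≫ 𝟙 (partObj F (N + 1))
    have hiN : i ≤ N := Nat.lt_succ_iff.1 hi
    have h1 : inc F (N + 1) i hi ≫ tMap F N ≫ (gMap F).app N =
        ∑ j ∈ Finset.Ico i N, (E F (N + 1) i j - E F (N + 1) i (j + 1)) := by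
      simp only [tMap, inc_desc_assoc, Preadditive.sum_comp]
      refine Finset.sum_congr rfl fun j hj => ?_
      obtain ⟨hij, hjN⟩ := Finset.mem_Ico.1 hj
      rw [E_eq F (N + 1) i j hij (by omega), E_eq F (N + 1) i (j + 1) (by omega) (by omega),
        E_eq F (N + 0) i j hij hjN]
      simp [gMap]
      refine (Preadditive.comp_sub _ _ _).trans ?_
      congr 1
      all_goals exact (F.map_comp_assoc (homOfLE hij) (homOfLE (Nat.le_succ j)) _).symm
    have h2 : inc F (N + 1) i hi ≫ (qMap F).app N ≫ inc F (N + 1) N (Nat.lt_succ_self N) = E F (N + 1) i N := by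
      rw [E_eq F (N + 1) i N hiN (Nat.lt_succ_self N)]
      simp [qMap]
    refine (Preadditive.comp_add _ _ _ _ _ _).trans ((congrArg₂ (fun a b : F.obj i ⟶ partObj F (N + 1) => a + b) h1 h2).trans ?_)
    rw [Finset.sum_Ico_eq_sum_range]
    have h3 : ∑ k ∈ Finset.range (N - i), (E F (N + 1) i (i + k) - E F (N + 1) i (i + k + 1)) =
        E F (N + 1) i i - E F (N + 1) i N := by
      have := Finset.sum_range_sub' (fun k => E F (N + 1) i (i + k)) (N - i)
      simpa [Nat.add_assoc, Nat.add_sub_cancel' hiN] using this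
    rw [h3, sub_add_cancel, E_eq F (N + 1) i i le_rfl hi, Category.comp_id]
    simp

section Cocone

variable [HasCoproduct F.obj]

/-- the cocone on the coproduct -/
noncomputable def cocone (s : ℕ) : Cocone (part F s) where
  pt := ∐ F.obj
  ι :=
    { app := fun N => desc F (N + s) fun i _ => Sigma.ι F.obj i
      naturality := fun M N h => hom_ext F fun i hi => by dsimp [part]; simp }

theorem inc_comp_ι {s : ℕ} (c : Cocone (part F s)) (M N i : ℕ) (hM : i < M + s) (hN : i < N + s) :
    inc F (M + s) i hM ≫ c.ι.app M = inc F (N + s) i hN ≫ c.ι.app N := by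
  wlog h : M ≤ N generalizing M N
  · exact (this N M hN hM (le_of_not_ge h)).symm
  rw [← c.w (homOfLE h)]
  dsimp [part]
  exact inc_desc_assoc F (M + s) i hM (fun i hi => inc F (N + s) i (by have := h; omega)) _

/-- the coproduct is the colimit of the partial sums -/
noncomputable def isColimit (s : ℕ) : IsColimit (cocone F s) where
  desc c := Sigma.desc fun i => inc F (i + 1 + s) i (by omega) ≫ c.ι.app (i + 1)
  fac c N := hom_ext F fun i hi => by
    dsimp [cocone, part]
    simp only [inc_desc_assoc, colimit.ι_desc, Cofan.mk_pt, Cofan.mk_ι_app]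
    exact inc_comp_ι F c (i + 1) N i (by omega) hi
  uniq c m hm := Sigma.hom_ext _ _ fun i => by
    rw [colimit.ι_desc]
    show Sigma.ι F.obj i ≫ m = inc F (i + 1 + s) i _ ≫ c.ι.app (i + 1)
    rw [← hm]
    dsimp [cocone, part]
    simp

variable [HasColimitsOfShape ℕ A]

/-- the comparison with the coproduct -/
noncomputable def isoPart (s : ℕ) : colimit (part F s) ≅ ∐ F.obj :=
  (colimit.isColimit _).coconePointUniqueUpToIso (isColimit F s)

theorem ι_isoPart (s N : ℕ) :
    colimit.ι (part F s) N ≫ (isoPart F s).hom = desc F (N + s) fun i _ => Sigma.ι F.obj i :=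
  IsColimit.comp_coconePointUniqueUpToIso_hom (colimit.isColimit (part F s)) (isColimit F s) N

variable [HasExactColimitsOfShape ℕ A]

/-- the telescope -/
theorem shortExact :
    ∃ w : (𝟙 (∐ F.obj) - DerLim.shiftMap F.obj (fun n => F.map (homOfLE (Nat.le_succ n)))) ≫
        Sigma.desc (fun n => colimit.ι F n) = 0,
      (ShortComplex.mk _ _ w).ShortExact := by
  let S0 : ShortComplex (ℕ ⥤ A) := ShortComplex.mk (gMap F) (qMap F) (g_q F)
  have hS : S0.ShortExact := by
    have hm : ∀ N, Mono ((gMap F).app N) := fun N => (splitting F N).shortExact.mono_f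
    have he : ∀ N, Epi ((qMap F).app N) := fun N => (splitting F N).shortExact.epi_g
    refine ShortComplex.ShortExact.mk' ?_ (NatTrans.mono_of_mono_app _) (NatTrans.epi_of_epi_app _)
    rw [ShortComplex.exact_iff_isZero_homology, IsZero.iff_id_eq_zero]
    ext N
    exact (((ShortComplex.exact_iff_isZero_homology _).1 (splitting F N).exact).of_iso
      (S0.mapHomologyIso ((evaluation ℕ A).obj N)).symm).eq_of_src _ _
  haveI : PreservesFiniteLimits (colim : (ℕ ⥤ A) ⥤ A) := inferInstance
  have hC := hS.map_of_exact (colim : (ℕ ⥤ A) ⥤ A)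
  have comm1 : colim.map (gMap F) ≫ (isoPart F 1).hom =
      (isoPart F 0).hom ≫ (𝟙 _ - DerLim.shiftMap F.obj (fun n => F.map (homOfLE (Nat.le_succ n)))) := by
    refine colimit.hom_ext fun N => hom_ext F fun i hi => ?_
    rw [show colimit.ι (part F 0) N ≫ colim.map (gMap F) ≫ (isoPart F 1).hom =
      (gMap F).app N ≫ colimit.ι (part F 1) N ≫ (isoPart F 1).hom from ι_colimMap_assoc _ _ _, ι_isoPart,
      ← Category.assoc (colimit.ι (part F 0) N), ι_isoPart]
    dsimp [gMap, part, DerLim.shiftMap]
    simp [Preadditive.sub_comp, Preadditive.comp_sub]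
  have comm2 : colim.map (qMap F) =
      (isoPart F 1).hom ≫ Sigma.desc (fun n => colimit.ι F n) := by
    refine colimit.hom_ext fun N => hom_ext F fun i hi => ?_
    rw [show colimit.ι (part F 1) N ≫ colim.map (qMap F) = (qMap F).app N ≫ colimit.ι F N from ι_colimMap _ _,
      ← Category.assoc (colimit.ι (part F 1) N), ι_isoPart]
    dsimp [qMap, part]
    simp
  have w : (𝟙 (∐ F.obj) - DerLim.shiftMap F.obj (fun n => F.map (homOfLE (Nat.le_succ n)))) ≫
      Sigma.desc (fun n => colimit.ι F n) = 0 := by
    rw [← cancel_epi (isoPart F 0).hom, ← Category.assoc, ← comm1, Category.assoc, ← comm2, comp_zero,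
      ← Functor.map_comp, g_q, Functor.map_zero]
  exact ⟨w, ShortComplex.shortExact_of_iso
    (ShortComplex.isoMk (S₁ := S0.map colim) (isoPart F 0) (isoPart F 1) (Iso.refl _) comm1.symm
      (comm2.symm.trans (Category.comp_id _).symm)) hC⟩

end Cocone

end Telescope29
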